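import Groth.Agent.VP29.LatticeScheme
import Groth.Prelude.Def_AlgGrp
import Groth.Prelude.Def_NonAbH2
import Mathlib.AlgebraicGeometry.Sites.Fpqc
import Mathlib.AlgebraicGeometry.Morphisms.FiniteType
import Mathlib.RingTheory.Localization.FractionRing

/-! The torsor glued from two trivial torsors along a point over `R'[1/r]`. -/

set_option autoImplicit false

universe u

open CategoryTheory MonoidalCategory CartesianMonoidalCategory MonObj AlgebraicGeometry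

namespace Groth.Agent.VP29

variable {R R₁ R' R₁₂ : Type u} [CommRing R] [CommRing R₁] [CommRing R'] [CommRing R₁₂]
  [Algebra R R₁] [Algebra R R'] [Algebra R R₁₂] [Algebra R₁ R₁₂] [Algebra R' R₁₂]
  [IsScalarTower R R₁ R₁₂] [IsScalarTower R R' R₁₂]

section Rel

variable {Y W W' : Over (Spec (CommRingCat.of R))}

/-- Compatibility of two points along an automorphism over `R'[1/r]`. -/
def Rel (Θ : sp R R₁₂ ⊗ Y ⟶ sp R R₁₂ ⊗ Y) (a : sp R R₁ ⊗ W ⟶ Y) (b : sp R R' ⊗ W ⟶ Y) : Prop :=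
  lift (fst _ _) ((res R R₁ R₁₂ ▷ W) ≫ a) = lift (fst _ _) ((res R R' R₁₂ ▷ W) ≫ b) ≫ Θ

theorem whisker_lift {Q : Over (Spec (CommRingCat.of R))} (u : W' ⟶ W) (i : sp R R₁₂ ⟶ Q) (a : Q ⊗ W ⟶ Y) :
    (sp R R₁₂ ◁ u) ≫ lift (fst _ _) ((i ▷ W) ≫ a) = lift (fst _ _) ((i ▷ W') ≫ (Q ◁ u) ≫ a) := by
  rw [comp_lift, whiskerLeft_fst, ← Category.assoc, whisker_exchange, Category.assoc]

theorem Rel.comp {Θ : sp R R₁₂ ⊗ Y ⟶ sp R R₁₂ ⊗ Y} {a : sp R R₁ ⊗ W ⟶ Y} {b : sp R R' ⊗ W ⟶ Y}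
    (h : Rel Θ a b) (u : W' ⟶ W) : Rel Θ ((sp R R₁ ◁ u) ≫ a) ((sp R R' ◁ u) ≫ b) := by
  unfold Rel
  rw [← whisker_lift, h, ← whisker_lift, Category.assoc]

theorem Rel.map {Z : Over (Spec (CommRingCat.of R))} {Θ : sp R R₁₂ ⊗ Y ⟶ sp R R₁₂ ⊗ Y}
    {Θ' : sp R R₁₂ ⊗ Z ⟶ sp R R₁₂ ⊗ Z} {e : Y ⟶ Z} (he : Θ ≫ (_ ◁ e) = (_ ◁ e) ≫ Θ')
    {a : sp R R₁ ⊗ W ⟶ Y} {b : sp R R' ⊗ W ⟶ Y} (h : Rel Θ a b) : Rel Θ' (a ≫ e) (b ≫ e) := by
  unfold Rel
  have h1 := congrArg (· ≫ (_ ◁ e)) h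
  simp only [Category.assoc, he, lift_whiskerLeft, lift_whiskerLeft_assoc] at h1
  exact h1

end Rel

variable {r : R}

theorem exists_glue (hS : Setting R R₁ R' R₁₂ r) (W Z : Over (Spec (CommRingCat.of R)))
    [IsAffine W.left] [Flat W.hom] [IsAffine Z.left] [Flat Z.hom]
    (a : sp R R₁ ⊗ W ⟶ Z) (b : sp R R' ⊗ W ⟶ Z)
    (h : (res R R₁ R₁₂ ▷ W) ≫ a = (res R R' R₁₂ ▷ W) ≫ b) :
    ∃ x : W ⟶ Z, snd _ _ ≫ x = a ∧ snd _ _ ≫ x = b := by
  obtain ⟨T, _, _, _, ⟨eW⟩⟩ := exists_iso_sp W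
  obtain ⟨O, _, _, _, ⟨eZ⟩⟩ := exists_iso_sp Z
  obtain ⟨x, hx, hx'⟩ := exists_glue_sp hS ((sp R R₁ ◁ eW.inv) ≫ a ≫ eZ.hom)
    ((sp R R' ◁ eW.inv) ≫ b ≫ eZ.hom) (by
      rw [← Category.assoc, ← whisker_exchange, Category.assoc, ← Category.assoc (res R R₁ R₁₂ ▷ W), h,
        ← Category.assoc (res R R' R₁₂ ▷ sp R T), ← whisker_exchange, Category.assoc, Category.assoc])
  refine ⟨eW.hom ≫ x ≫ eZ.inv, ?_, ?_⟩
  · rw [← whiskerLeft_snd_assoc (sp R R₁) eW.hom, ← Category.assoc (snd _ _), hx]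
    simp
  · rw [← whiskerLeft_snd_assoc (sp R R') eW.hom, ← Category.assoc (snd _ _), hx']
    simp

theorem hom_ext (hS : Setting R R₁ R' R₁₂ r) {W Z : Over (Spec (CommRingCat.of R))}
    [IsAffine W.left] [Flat W.hom] [IsAffine Z.left] [Flat Z.hom] {x y : W ⟶ Z}
    (h : snd (sp R R₁) W ≫ x = snd _ _ ≫ y) : x = y := by
  obtain ⟨T, _, _, _, ⟨eW⟩⟩ := exists_iso_sp W
  obtain ⟨O, _, _, _, ⟨eZ⟩⟩ := exists_iso_sp Z
  rw [← cancel_epi eW.inv, ← cancel_mono eZ.hom]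
  refine hom_ext_sp hS ?_
  rw [Category.assoc, Category.assoc, ← whiskerLeft_snd_assoc (sp R R₁) eW.inv,
    ← whiskerLeft_snd_assoc (sp R R₁) eW.inv, reassoc_of% h]

theorem exists_lattice (hS : Setting R R₁ R' R₁₂ r) [IsNoetherianRing R]
    (G : Over (Spec (CommRingCat.of R))) [IsAffine G.left] [Flat G.hom] [LocallyOfFiniteType G.hom]
    (Θ : sp R R₁₂ ⊗ G ≅ sp R R₁₂ ⊗ G) (hΘ : Θ.hom ≫ fst _ _ = fst _ _)
    (e : 𝟙_ (Over (Spec (CommRingCat.of R))) ⟶ G) :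
    ∃ X : Over (Spec (CommRingCat.of R)), IsAffine X.left ∧ Flat X.hom ∧ LocallyOfFinitePresentation X.hom ∧
      Nonempty (sp R R₁ ⟶ X) ∧ Nonempty (sp R R' ⟶ X) ∧
      ∃ (χ : sp R R₁ ⊗ X ⟶ G) (η₀ : sp R R' ⊗ X ⟶ G), Rel Θ.hom χ η₀ ∧
        ∀ (W : Over (Spec (CommRingCat.of R))) [IsAffine W.left] [Flat W.hom]
          (a : sp R R₁ ⊗ W ⟶ G) (b : sp R R' ⊗ W ⟶ G), Rel Θ.hom a b →
            ∃! x : W ⟶ X, (sp R R₁ ◁ x) ≫ χ = a := by
  obtain ⟨O, _, _, _, ⟨eG⟩⟩ := exists_iso_sp G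
  haveI : Algebra.FiniteType R O := by
    haveI : LocallyOfFiniteType (sp R O).hom := by
      haveI : IsIso eG.inv.left := inferInstanceAs (IsIso ((Over.forget _).map eG.inv))
      rw [← Over.w eG.inv]; infer_instance
    exact RingHom.finiteType_algebraMap.1 ((HasRingHomProperty.Spec_iff (P := @LocallyOfFiniteType)).1 this)
  obtain ⟨e₀, -⟩ := exists_sm (T := O) (T' := R) (toUnit (sp R R) ≫ e ≫ eG.hom)
  let E := whiskerLeftIso (sp R R₁₂) eG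
  obtain ⟨C, _, _, hflat, hfp, ⟨p₁⟩, ⟨p'⟩, χ, η₀, hrel, huniv⟩ :=
    exists_lattice_sp hS (E.symm ≪≫ Θ ≪≫ E)
      (by simp [E, hΘ]) e₀
  have hto : Θ.hom ≫ (sp R R₁₂ ◁ eG.hom) = (sp R R₁₂ ◁ eG.hom) ≫ (E.symm ≪≫ Θ ≪≫ E).hom := by simp [E]
  have hfrom : (E.symm ≪≫ Θ ≪≫ E).hom ≫ (sp R R₁₂ ◁ eG.inv) = (sp R R₁₂ ◁ eG.inv) ≫ Θ.hom := by simp [E]
  refine ⟨sp R C, inferInstanceAs (IsAffine (Spec (CommRingCat.of C))), ?_, ?_, ⟨sm p₁⟩, ⟨sm p'⟩, χ ≫ eG.inv, η₀ ≫ eG.inv,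
    Rel.map hfrom hrel, fun W _ _ a b hab => ?_⟩
  · exact (HasRingHomProperty.Spec_iff (P := @Flat)).2 (RingHom.flat_algebraMap_iff.2 hflat)
  · exact (HasRingHomProperty.Spec_iff (P := @LocallyOfFinitePresentation)).2
      (RingHom.finitePresentation_algebraMap.2 hfp)
  obtain ⟨T, _, _, _, ⟨eW⟩⟩ := exists_iso_sp W
  obtain ⟨x, hx, huniq⟩ := huniv T _ _ ((Rel.map hto hab).comp eW.inv)
  refine ⟨eW.hom ≫ x, ?_, fun y hy => ?_⟩
  · show (sp R R₁ ◁ (eW.hom ≫ x)) ≫ χ ≫ eG.inv = a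
    rw [whiskerLeft_comp, Category.assoc, reassoc_of% hx]
    simp
  · rw [← Iso.inv_comp_eq, huniq (eW.inv ≫ y) ?_]
    change (sp R R₁ ◁ (eW.inv ≫ y)) ≫ χ = _
    change (sp R R₁ ◁ y) ≫ χ ≫ eG.inv = a at hy
    rw [whiskerLeft_comp, Category.assoc, ← hy]
    simp

section Torsor

variable {G : Over (Spec (CommRingCat.of R))} [GrpObj G] (g : sp R R₁₂ ⟶ G)

/-- Right translation by `g`. -/
noncomputable def translate : sp R R₁₂ ⊗ G ≅ sp R R₁₂ ⊗ G where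
  hom := lift (fst _ _) (snd _ _ * (fst _ _ ≫ g))
  inv := lift (fst _ _) (snd _ _ * (fst _ _ ≫ g)⁻¹)
  hom_inv_id := by
    apply CartesianMonoidalCategory.hom_ext
    · simp
    · rw [Category.assoc, lift_snd, MonObj.comp_mul, GrpObj.comp_inv, lift_snd, lift_fst_assoc,
        mul_inv_cancel_right, Category.id_comp]
  inv_hom_id := by
    apply CartesianMonoidalCategory.hom_ext
    · simp
    · rw [Category.assoc, lift_snd, MonObj.comp_mul, lift_snd, lift_fst_assoc,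
        inv_mul_cancel_right, Category.id_comp]

theorem rel_translate_iff {W : Over (Spec (CommRingCat.of R))} (a : sp R R₁ ⊗ W ⟶ G)
    (b : sp R R' ⊗ W ⟶ G) :
    Rel (translate g).hom a b ↔
      (res R R₁ R₁₂ ▷ W) ≫ a = ((res R R' R₁₂ ▷ W) ≫ b) * (fst _ _ ≫ g) := by
  unfold Rel
  have : lift (fst (sp R R₁₂) W) ((res R R' R₁₂ ▷ W) ≫ b) ≫ (translate g).hom =
      lift (fst _ _) (((res R R' R₁₂ ▷ W) ≫ b) * (fst _ _ ≫ g)) := by
    rw [show (translate g).hom = lift (fst (sp R R₁₂) G) (snd _ _ * (fst _ _ ≫ g)) from rfl]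
    rw [comp_lift, MonObj.comp_mul, lift_fst, lift_snd, lift_fst_assoc]
  rw [this]
  constructor
  · intro h
    simpa using congrArg (· ≫ snd _ _) h
  · intro h
    rw [h]

variable {X : Over (Spec (CommRingCat.of R))}

/-- The glued torsor. -/
theorem exists_torsor (hS : Setting R R₁ R' R₁₂ r) [IsNoetherianRing R]
    [IsAffine G.left] [Flat G.hom] [LocallyOfFiniteType G.hom] :
    ∃ (X : Over (Spec (CommRingCat.of R))) (act : AlgGrp.Action G X),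
      NonAbH1.IsPseudoTorsorSch act ∧ Flat X.hom ∧ LocallyOfFinitePresentation X.hom ∧
      Nonempty (sp R R₁ ⟶ X) ∧ Nonempty (sp R R' ⟶ X) ∧
      ∀ s : 𝟙_ (Over (Spec (CommRingCat.of R))) ⟶ X,
        ∃ (g₁ : sp R R₁ ⟶ G) (g₂ : sp R R' ⟶ G), g = (res R R' R₁₂ ≫ g₂) * (res R R₁ R₁₂ ≫ g₁) := by
  obtain ⟨X, hX₁, hX₂, hX₃, hp₁, hp', χ, η₀, hrel, huniv⟩ :=
    exists_lattice hS G (translate g) (lift_fst _ _) η[G]
  rw [rel_translate_iff] at hrel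
  haveI : IsAffine (G ⊗ X).left := inferInstanceAs (IsAffine (Limits.pullback _ _))
  haveI : IsAffine (X ⊗ X).left := inferInstanceAs (IsAffine (Limits.pullback _ _))
  haveI : IsAffine ((G ⊗ G) ⊗ X).left := by
    haveI : IsAffine (G ⊗ G).left := inferInstanceAs (IsAffine (Limits.pullback _ _))
    exact inferInstanceAs (IsAffine (Limits.pullback _ _))
  haveI : IsAffine (𝟙_ (Over (Spec (CommRingCat.of R))) ⊗ X).left := by
    haveI : IsAffine (𝟙_ (Over (Spec (CommRingCat.of R)))).left :=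
      inferInstanceAs (IsAffine (Spec (CommRingCat.of R)))
    exact inferInstanceAs (IsAffine (Limits.pullback _ _))
  haveI hflat : ∀ (A B : Over (Spec (CommRingCat.of R))) [Flat A.hom] [Flat B.hom], Flat (A ⊗ B).hom := by
    intro A B _ _
    rw [Over.tensorObj_hom]; infer_instance
  haveI : Flat (𝟙_ (Over (Spec (CommRingCat.of R)))).hom :=
    inferInstanceAs (Flat (𝟙 (Spec (CommRingCat.of R))))
  haveI := hflat G X
  haveI := hflat X X
  haveI := hflat G G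
  haveI := hflat (G ⊗ G) X
  haveI := hflat (𝟙_ (Over (Spec (CommRingCat.of R)))) X
  have hrel' : ∀ {W : Over (Spec (CommRingCat.of R))} (x : W ⟶ X),
      (res R R₁ R₁₂ ▷ W) ≫ (sp R R₁ ◁ x) ≫ χ =
        ((res R R' R₁₂ ▷ W) ≫ (sp R R' ◁ x) ≫ η₀) * (fst _ _ ≫ g) := fun x =>
    (rel_translate_iff g _ _).1 (((rel_translate_iff g _ _).2 hrel).comp x)
  have hinj : ∀ {W : Over (Spec (CommRingCat.of R))} [IsAffine W.left] [Flat W.hom] {x y : W ⟶ X},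
      (sp R R₁ ◁ x) ≫ χ = (sp R R₁ ◁ y) ≫ χ → x = y := fun {W} _ _ {x y} h =>
    (huniv W _ _ ((rel_translate_iff g _ _).2 (hrel' x))).unique rfl h.symm
  obtain ⟨act, hact, -⟩ := huniv (G ⊗ X) ((snd _ _ ≫ fst _ _) * ((sp R R₁ ◁ snd G X) ≫ χ))
    ((snd _ _ ≫ fst _ _) * ((sp R R' ◁ snd G X) ≫ η₀)) ((rel_translate_iff g _ _).2 (by
      rw [MonObj.comp_mul, MonObj.comp_mul, hrel', _root_.mul_assoc, whiskerRight_snd_assoc, whiskerRight_snd_assoc]))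
  have hone : (η[G] ▷ X) ≫ act = (λ_ X).hom := hinj (by
    rw [whiskerLeft_comp, Category.assoc, hact, MonObj.comp_mul, ← whiskerLeft_comp_assoc, whiskerRight_snd,
      whiskerLeft_snd_assoc, whiskerRight_fst, MonObj.one_eq_one, MonObj.comp_one, MonObj.comp_one, _root_.one_mul,
      leftUnitor_hom])
  have hF : ∀ {W : Over (Spec (CommRingCat.of R))} (u : W ⟶ G) (v : W ⟶ X),
      (sp R R₁ ◁ (lift u v ≫ act)) ≫ χ = (snd _ _ ≫ u) * ((sp R R₁ ◁ v) ≫ χ) := fun u v => by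
    rw [whiskerLeft_comp, Category.assoc, hact, MonObj.comp_mul, whiskerLeft_snd_assoc, lift_fst,
      ← whiskerLeft_comp_assoc, lift_snd]
  have hmul : (μ[G] ▷ X) ≫ act = (α_ G G X).hom ≫ (G ◁ act) ≫ act := hinj (by
    have e1 : μ[G] ▷ X = lift (fst (G ⊗ G) X ≫ μ[G]) (snd _ _) := by ext <;> simp
    have e2 : (α_ G G X).hom ≫ (G ◁ act) = lift (fst (G ⊗ G) X ≫ fst G G)
        (lift (fst (G ⊗ G) X ≫ snd G G) (snd _ _) ≫ act) := by
      apply CartesianMonoidalCategory.hom_ext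
      · simp
      · rw [Category.assoc, whiskerLeft_snd, lift_snd, ← Category.assoc]
        congr 1
        apply CartesianMonoidalCategory.hom_ext <;> simp
    rw [e1, ← Category.assoc, e2, hF, hF, hF, MonObj.mul_eq_mul, MonObj.comp_mul, MonObj.comp_mul,
      _root_.mul_assoc])
  refine ⟨X, ⟨act, hone, hmul⟩, ?_, hX₂, hX₃, hp₁, hp', fun s => ?_⟩
  · obtain ⟨δ, hδ, -⟩ := exists_glue hS (X ⊗ X) G
      (((sp R R₁ ◁ fst X X) ≫ χ) * ((sp R R₁ ◁ snd X X) ≫ χ)⁻¹)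
      (((sp R R' ◁ fst X X) ≫ η₀) * ((sp R R' ◁ snd X X) ≫ η₀)⁻¹) (by
        rw [MonObj.comp_mul, MonObj.comp_mul, GrpObj.comp_inv, GrpObj.comp_inv, hrel', hrel', mul_inv_rev,
          _root_.mul_assoc, mul_inv_cancel_left])
    refine ⟨⟨lift δ (snd X X), ?_, ?_⟩⟩
    · apply CartesianMonoidalCategory.hom_ext
      · rw [Category.assoc, lift_fst, Category.id_comp]
        apply hom_ext hS
        rw [← whiskerLeft_snd_assoc, hδ, MonObj.comp_mul, GrpObj.comp_inv, ← whiskerLeft_comp_assoc,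
          ← whiskerLeft_comp_assoc, lift_fst, lift_snd, hact, mul_inv_cancel_right]
      · simp
    · apply CartesianMonoidalCategory.hom_ext
      · rw [Category.assoc, lift_fst, Category.id_comp]
        apply hinj
        rw [whiskerLeft_comp, Category.assoc, hact, MonObj.comp_mul, whiskerLeft_snd_assoc, lift_fst,
          ← whiskerLeft_comp_assoc, lift_snd, hδ, inv_mul_cancel_right]
      · simp
  · refine ⟨(ρ_ (sp R R₁)).inv ≫ (sp R R₁ ◁ s) ≫ χ, ((ρ_ (sp R R')).inv ≫ (sp R R' ◁ s) ≫ η₀)⁻¹, ?_⟩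
    rw [GrpObj.comp_inv, eq_inv_mul_iff_mul_eq, rightUnitor_inv_naturality_assoc,
      rightUnitor_inv_naturality_assoc, hrel' s, MonObj.comp_mul]
    simp

end Torsor

theorem Setting.exists_hom_quotient (hS : Setting R R₁ R' R₁₂ r) (P : Ideal R) (hP : r ∈ P) :
    ∃ φ : R' →+* R ⧸ P, φ.comp (algebraMap R R') = Ideal.Quotient.mk P := by
  let e := RingEquiv.ofBijective _ (hS.quot 1 Nat.one_pos)
  refine ⟨(Ideal.Quotient.factor (show Ideal.span {r ^ 1} ≤ P by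
    rw [Ideal.span_singleton_le_iff_mem, pow_one]; exact hP)).comp
      (e.symm.toRingHom.comp (Ideal.Quotient.mk _)), RingHom.ext fun x => ?_⟩
  show Ideal.Quotient.factor (show Ideal.span {r ^ 1} ≤ P by
    rw [Ideal.span_singleton_le_iff_mem, pow_one]; exact hP) (e.symm (Ideal.Quotient.mk _ (algebraMap R R' x))) = _
  rw [show e.symm (Ideal.Quotient.mk _ (algebraMap R R' x)) = Ideal.Quotient.mk _ x from
    e.symm_apply_eq.2 (Ideal.quotientMap_mk (H := Ideal.le_comap_map)).symm, Ideal.Quotient.factor_mk]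

theorem Setting.surjective_of_points (hS : Setting R R₁ R' R₁₂ r) {X : Over (Spec (CommRingCat.of R))}
    (a : sp R R₁ ⟶ X) (b : sp R R' ⟶ X) : Function.Surjective X.hom.base := by
  intro x
  have := hS.loc₁
  revert x
  show ∀ x : PrimeSpectrum R, ∃ y, X.hom.base y = x
  intro x
  by_cases hr : r ∈ x.asIdeal
  · obtain ⟨φ, hφ⟩ := hS.exists_hom_quotient x.asIdeal hr
    haveI : Nontrivial (R ⧸ x.asIdeal) := Ideal.Quotient.nontrivial_iff.2 x.isPrime.ne_top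
    let y : PrimeSpectrum (R ⧸ x.asIdeal) := ⟨⊥, Ideal.isPrime_bot⟩
    let q : Spec (CommRingCat.of (R ⧸ x.asIdeal)) ⟶ X.left := Spec.map (CommRingCat.ofHom φ) ≫ b.left
    refine ⟨q y, ?_⟩
    show (q ≫ X.hom) y = x
    have hq : q ≫ X.hom = Spec.map (CommRingCat.ofHom (Ideal.Quotient.mk x.asIdeal)) := by
      rw [← hφ, CommRingCat.ofHom_comp, Spec.map_comp, Category.assoc]
      exact congrArg (_ ≫ ·) (Over.w b)
    rw [hq]
    apply PrimeSpectrum.ext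
    show Ideal.comap (Ideal.Quotient.mk x.asIdeal) ⊥ = x.asIdeal
    rw [← RingHom.ker_eq_comap_bot, Ideal.mk_ker]
  · obtain ⟨y, hy⟩ : x ∈ Set.range (PrimeSpectrum.comap (algebraMap R R₁)) := by
      rw [PrimeSpectrum.localization_away_comap_range R₁ r]; exact hr
    refine ⟨a.left y, ?_⟩
    show (a.left ≫ X.hom) y = x
    rw [Over.w a]
    exact hy

theorem main (hS : Setting R R₁ R' R₁₂ r) [IsNoetherianRing R]
    (G : Over (Spec (CommRingCat.of R))) [GrpObj G] [IsAffine G.left] [Flat G.hom] [LocallyOfFiniteType G.hom]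
    {K : Type u} [CommRing K] [Algebra R K] (hK : IsUnit (algebraMap R K r))
    (hGS : ∀ (X : Over (Spec (CommRingCat.of R))) (a : AlgGrp.Action G X),
      NonAbH1.IsTorsorFor Scheme.fppfPrecoverage a →
      NonAbH1.HasSectionOver X (Spec.map (CommRingCat.ofHom (algebraMap R K))) →
      NonAbH1.HasSectionOver X (𝟙 (Spec (CommRingCat.of R))))
    (g : sp R R₁₂ ⟶ G) :
    ∃ (g₁ : sp R R₁ ⟶ G) (g₂ : sp R R' ⟶ G), g = (res R R' R₁₂ ≫ g₂) * (res R R₁ R₁₂ ≫ g₁) := by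
  obtain ⟨X, act, hps, hflat, hlfp, ⟨p₁⟩, ⟨p'⟩, hsec⟩ := exists_torsor g hS
  have htor : NonAbH1.IsTorsorFor Scheme.fppfPrecoverage act := by
    refine ⟨hps, Presieve.singleton X.hom, ?_, fun S' f hf => ?_⟩
    · show _ ∈ Scheme.precoverage _ _
      rw [Scheme.singleton_mem_precoverage_iff]
      exact ⟨hS.surjective_of_points p₁ p', hflat, hlfp⟩
    · cases hf
      exact ⟨𝟙 _, Category.id_comp _⟩
  have := hS.loc₁
  let inc : R₁ →ₐ[R] K := IsLocalization.liftAlgHom (M := Submonoid.powers r) (f := Algebra.ofId R K) (by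
    rintro ⟨_, m, rfl⟩
    show IsUnit (algebraMap R K (r ^ m))
    rw [map_pow]; exact hK.pow m)
  obtain ⟨s, hs⟩ := hGS X act htor ⟨(sm inc ≫ p₁).left, Over.w (sm inc ≫ p₁)⟩
  exact hsec (Over.homMk s hs)

end Groth.Agent.VP29
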