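import Mathlib.AlgebraicGeometry.Pullbacks
import Mathlib.AlgebraicGeometry.AffineScheme
import Mathlib.AlgebraicGeometry.Morphisms.Flat
import Mathlib.CategoryTheory.Monoidal.Cartesian.Over
import Mathlib.RingTheory.Flat.Basic

/-! Affine schemes over an affine base and their products. -/

set_option autoImplicit false

universe u

open CategoryTheory MonoidalCategory CartesianMonoidalCategory Limits AlgebraicGeometry TensorProduct

namespace Groth.Agent.VP29

variable {R : Type u} [CommRing R]

variable (R) in
/-- The spectrum of an algebra, over the base. -/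
noncomputable abbrev sp (T : Type u) [CommRing T] [Algebra R T] : Over (Spec (CommRingCat.of R)) :=
  Over.mk (Spec.map (CommRingCat.ofHom (algebraMap R T)))

variable {T T' T'' : Type u} [CommRing T] [Algebra R T] [CommRing T'] [Algebra R T'] [CommRing T'']
  [Algebra R T'']

/-- The morphism attached to an algebra map. -/
noncomputable def sm (f : T →ₐ[R] T') : sp R T' ⟶ sp R T :=
  Over.homMk (Spec.map (CommRingCat.ofHom f.toRingHom)) (by
    show Spec.map _ ≫ Spec.map _ = Spec.map _
    rw [← Spec.map_comp]
    congr 1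
    ext x
    exact f.commutes x)

theorem sm_left (f : T →ₐ[R] T') : (sm f).left = Spec.map (CommRingCat.ofHom f.toRingHom) := rfl

theorem sm_comp (f : T →ₐ[R] T') (g : T' →ₐ[R] T'') : sm (g.comp f) = sm g ≫ sm f := by
  apply Over.OverMorphism.ext
  show Spec.map _ = Spec.map _ ≫ Spec.map _
  rw [← Spec.map_comp]
  rfl

theorem sm_injective : Function.Injective (sm : (T →ₐ[R] T') → _) := fun f g h => by
  have h1 := Spec.map_injective (congrArg (·.left) h)
  exact AlgHom.ext fun x => congrArg (fun φ => φ.hom x) h1

theorem exists_sm (φ : sp R T' ⟶ sp R T) : ∃ f : T →ₐ[R] T', sm f = φ := by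
  have h := Over.w φ
  change φ.left ≫ Spec.map _ = Spec.map _ at h
  rw [← Spec.map_preimage φ.left, ← Spec.map_comp, Spec.map_inj] at h
  exact ⟨{ (Spec.preimage φ.left).hom with commutes' := fun x => congrArg (fun ψ => ψ.hom x) h },
    Over.OverMorphism.ext (Spec.map_preimage φ.left)⟩

theorem sm_id : sm (AlgHom.id R T) = 𝟙 (sp R T) := by
  apply Over.OverMorphism.ext
  exact Spec.map_id _

variable (R T T') in
/-- The comparison with the product. -/
noncomputable def spTensor : sp R (T ⊗[R] T') ⟶ sp R T ⊗ sp R T' :=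
  lift (sm Algebra.TensorProduct.includeLeft) (sm Algebra.TensorProduct.includeRight)

@[reassoc (attr := simp)]
theorem spTensor_fst : spTensor R T T' ≫ fst _ _ = sm Algebra.TensorProduct.includeLeft := lift_fst _ _

@[reassoc (attr := simp)]
theorem spTensor_snd : spTensor R T T' ≫ snd _ _ = sm Algebra.TensorProduct.includeRight := lift_snd _ _

instance : IsIso (spTensor R T T') := by
  have h : (spTensor R T T').left = (pullbackSpecIso R T T').inv := by
    apply pullback.hom_ext
    · exact Eq.trans (congrArg (·.left) (spTensor_fst (R := R) (T := T) (T' := T')))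
        (pullbackSpecIso_inv_fst R T T').symm
    · exact Eq.trans (congrArg (·.left) (spTensor_snd (R := R) (T := T) (T' := T')))
        (pullbackSpecIso_inv_snd R T T').symm
  haveI : IsIso ((Over.forget _).map (spTensor R T T')) := by
    show IsIso (spTensor R T T').left
    rw [h]
    exact Iso.isIso_inv (pullbackSpecIso R T T')
  exact isIso_of_reflects_iso (spTensor R T T') (Over.forget _)

variable {R₁ R₂ : Type u} [CommRing R₁] [Algebra R R₁] [CommRing R₂] [Algebra R R₂]

@[reassoc]
theorem spTensor_whiskerRight (f : R₁ →ₐ[R] R₂) :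
    spTensor R R₂ T ≫ (sm f ▷ sp R T) =
      sm (Algebra.TensorProduct.map f (AlgHom.id R T)) ≫ spTensor R R₁ T := by
  apply CartesianMonoidalCategory.hom_ext
  · simp only [Category.assoc, whiskerRight_fst, spTensor_fst, spTensor_fst_assoc, ← sm_comp]
    exact congrArg sm (AlgHom.ext fun x => by simp)
  · simp only [Category.assoc, whiskerRight_snd, spTensor_snd, ← sm_comp]
    exact congrArg sm (AlgHom.ext fun x => by simp)

@[reassoc]
theorem spTensor_whiskerLeft (g : T →ₐ[R] T') :
    spTensor R R₁ T' ≫ (sp R R₁ ◁ sm g) =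
      sm (Algebra.TensorProduct.map (AlgHom.id R R₁) g) ≫ spTensor R R₁ T := by
  apply CartesianMonoidalCategory.hom_ext
  · simp only [Category.assoc, whiskerLeft_fst, spTensor_fst, ← sm_comp]
    exact congrArg sm (AlgHom.ext fun x => by simp)
  · simp only [Category.assoc, whiskerLeft_snd, spTensor_snd, spTensor_snd_assoc, ← sm_comp]
    exact congrArg sm (AlgHom.ext fun x => by simp)

/-- A map to a product with first component the projection. -/
theorem spTensor_lift_eq (f : T →ₐ[R] R₁ ⊗[R] T') :
    ∀ (a : sp R R₁ ⊗ sp R T' ⟶ sp R T), spTensor R R₁ T' ≫ a = sm f →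
      spTensor R R₁ T' ≫ lift (fst _ _) a =
        sm ((Algebra.TensorProduct.lift (Algebra.ofId R₁ _) f fun _ _ => Commute.all _ _).restrictScalars R) ≫
          spTensor R R₁ T := by
  intro a ha
  apply CartesianMonoidalCategory.hom_ext
  · simp only [Category.assoc, lift_fst, spTensor_fst, ← sm_comp]
    exact congrArg sm (AlgHom.ext fun x => by simp)
  · simp only [Category.assoc, lift_snd, ha, spTensor_snd, ← sm_comp]
    exact congrArg sm (AlgHom.ext fun x => by simp)

/-- An affine flat scheme over the base is the spectrum of a flat algebra. -/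
theorem exists_iso_sp (W : Over (Spec (CommRingCat.of R))) [IsAffine W.left] [Flat W.hom] :
    ∃ (T : Type u) (_ : CommRing T) (_ : Algebra R T), Module.Flat R T ∧ Nonempty (W ≅ sp R T) := by
  obtain ⟨φ, hφ⟩ : ∃ φ : CommRingCat.of R ⟶ Γ(W.left, ⊤), Spec.map φ = W.left.isoSpec.inv ≫ W.hom :=
    ⟨_, Spec.map_preimage _⟩
  refine ⟨Γ(W.left, ⊤), inferInstance, φ.hom.toAlgebra, ?_, ⟨Over.isoMk W.left.isoSpec ?_⟩⟩
  · have : Flat (Spec.map φ) := by rw [hφ]; infer_instance
    exact (HasRingHomProperty.Spec_iff (P := @Flat)).1 this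
  · show W.left.isoSpec.hom ≫ Spec.map φ = W.hom
    rw [hφ, Iso.hom_inv_id_assoc]

end Groth.Agent.VP29
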