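import Groth.Agent.EtAlg23.GlueFlat
import Groth.Agent.Glue24.Detect
import Mathlib.RingTheory.TensorProduct.Maps
import Mathlib.RingTheory.RingHom.FiniteType
import Mathlib.RingTheory.Flat.TorsionFree
import Mathlib.RingTheory.Localization.BaseChange

/-! Algebras glued from `R[1/r] ⊗ O` and `R' ⊗ O` along an automorphism over `R'[1/r]`. -/

set_option autoImplicit false

universe u

open TensorProduct

namespace Groth.Agent.VP29

variable {R R₁ R' R₁₂ : Type u} [CommRing R] [CommRing R₁] [CommRing R'] [CommRing R₁₂]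
  [Algebra R R₁] [Algebra R R'] [Algebra R R₁₂] [Algebra R₁ R₁₂] [Algebra R' R₁₂]
  [IsScalarTower R R₁ R₁₂] [IsScalarTower R R' R₁₂]

variable (R R₁ R₁₂) in
/-- The restriction `R₁ ⊗ T → R₁₂ ⊗ T`. -/
noncomputable def J (T : Type u) [CommRing T] [Algebra R T] : R₁ ⊗[R] T →ₐ[R₁] R₁₂ ⊗[R] T :=
  Algebra.TensorProduct.map (Algebra.ofId R₁ R₁₂) (AlgHom.id R T)

variable (R R₁ R₁₂) in
theorem J_tmul (T : Type u) [CommRing T] [Algebra R T] (x : R₁) (t : T) :
    J R R₁ R₁₂ T (x ⊗ₜ t) = algebraMap R₁ R₁₂ x ⊗ₜ t := rfl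

theorem J_smul (T : Type u) [CommRing T] [Algebra R T] (q : R) (z : R₁ ⊗[R] T) :
    J R R₁ R₁₂ T (q • z) = q • J R R₁ R₁₂ T z :=
  ((J R R₁ R₁₂ T).toLinearMap.restrictScalars R).map_smul q z

/-- The data of a lattice: `r` regular, `R'` flat with the same quotients by powers of `r`. -/
structure Setting (R R₁ R' R₁₂ : Type u) [CommRing R] [CommRing R₁] [CommRing R'] [CommRing R₁₂]
    [Algebra R R₁] [Algebra R R'] [Algebra R' R₁₂] (r : R) : Prop where
  loc₁ : IsLocalization.Away r R₁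
  loc₁₂ : IsLocalization.Away (algebraMap R R' r) R₁₂
  flat : Module.Flat R R'
  quot : EtGlue.QuotPowBijective R R' r
  reg : IsRegular r

variable {r : R}

namespace Setting

variable (hS : Setting R R₁ R' R₁₂ r)
include hS

theorem pow_smul_inj_of_flat {M : Type u} [AddCommGroup M] [Module R M] [Module.Flat R M] (n : ℕ)
    {x y : M} (h : r ^ n • x = r ^ n • y) : x = y :=
  Module.Flat.isSMulRegular_of_isRegular (hS.reg.pow n) h

theorem pow_smul_inj_one {M : Type u} [AddCommGroup M] [Module R M] [Module R₁ M]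
    [IsScalarTower R R₁ M] (n : ℕ) {x y : M} (h : r ^ n • x = r ^ n • y) : x = y := by
  have := hS.loc₁
  rw [← algebraMap_smul R₁ (r ^ n) x, ← algebraMap_smul R₁ (r ^ n) y] at h
  exact ((IsLocalization.Away.algebraMap_isUnit (S := R₁) r).pow n).smul_left_cancel.1
    (by rwa [← map_pow])

theorem pow_smul_inj_both {M : Type u} [AddCommGroup M] [Module R M] [Module R₁₂ M]
    [IsScalarTower R R₁₂ M] (n : ℕ) {x y : M} (h : r ^ n • x = r ^ n • y) : x = y := by
  have := hS.loc₁₂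
  rw [← algebraMap_smul R₁₂ (r ^ n) x, ← algebraMap_smul R₁₂ (r ^ n) y] at h
  refine ((IsLocalization.Away.algebraMap_isUnit (S := R₁₂) (algebraMap R R' r)).pow n).smul_left_cancel.1 ?_
  rwa [← IsScalarTower.algebraMap_apply, ← map_pow]

theorem flat_loc : Module.Flat R R₁ := by
  have := hS.loc₁
  exact IsLocalization.flat R₁ (Submonoid.powers r)

theorem algebraMap_injective : Function.Injective (algebraMap R' R₁₂) := by
  have := hS.loc₁₂
  have := hS.flat
  rw [injective_iff_map_eq_zero]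
  intro x hx
  obtain ⟨⟨_, n, rfl⟩, hn⟩ := (IsLocalization.map_eq_zero_iff (Submonoid.powers (algebraMap R R' r)) R₁₂ x).1 hx
  refine hS.pow_smul_inj_of_flat n ?_
  rw [smul_zero, Algebra.smul_def, map_pow]
  exact hn

section Tensor

variable (T : Type u) [CommRing T] [Algebra R T]

omit hS in
variable (R R' R₁₂) in
theorem rTensor_eq (x : R' ⊗[R] T) :
    J R R' R₁₂ T x = ((Algebra.ofId R' R₁₂).restrictScalars R).toLinearMap.rTensor T x := rfl

theorem K_injective [Module.Flat R T] : Function.Injective (J R R' R₁₂ T) := fun x y h => by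
  rw [rTensor_eq, rTensor_eq] at h
  exact Module.Flat.rTensor_preserves_injective_linearMap _ hS.algebraMap_injective h

theorem exists_num_one (x : R₁ ⊗[R] T) : ∃ (n : ℕ) (t : T), r ^ n • x = 1 ⊗ₜ t := by
  have := hS.loc₁
  induction x using TensorProduct.induction_on with
  | zero => exact ⟨0, 0, by simp⟩
  | tmul a t =>
    obtain ⟨⟨s, _, n, rfl⟩, hs⟩ := IsLocalization.surj (Submonoid.powers r) a
    refine ⟨n, s • t, ?_⟩
    rw [smul_tmul', Algebra.smul_def, mul_comm, hs, Algebra.algebraMap_eq_smul_one, smul_tmul]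
  | add a b ha hb =>
    obtain ⟨n, s, hs⟩ := ha
    obtain ⟨m, t, ht⟩ := hb
    refine ⟨n + m, r ^ m • s + r ^ n • t, ?_⟩
    rw [smul_add, tmul_add, tmul_smul, tmul_smul, ← hs, ← ht, smul_smul, smul_smul, ← pow_add, ← pow_add,
      add_comm m n]

theorem exists_num_both (x : R₁₂ ⊗[R] T) : ∃ (n : ℕ) (y : R' ⊗[R] T), r ^ n • x = J R R' R₁₂ T y := by
  have := hS.loc₁₂
  induction x using TensorProduct.induction_on with
  | zero => exact ⟨0, 0, by simp⟩
  | tmul a t =>
    obtain ⟨⟨s, _, n, rfl⟩, hs⟩ := IsLocalization.surj (Submonoid.powers (algebraMap R R' r)) a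
    refine ⟨n, s ⊗ₜ t, ?_⟩
    rw [smul_tmul', Algebra.smul_def, mul_comm, J_tmul, ← hs, map_pow, map_pow,
      ← IsScalarTower.algebraMap_apply]
  | add a b ha hb =>
    obtain ⟨n, y, hy⟩ := ha
    obtain ⟨m, z, hz⟩ := hb
    refine ⟨n + m, r ^ m • y + r ^ n • z, ?_⟩
    rw [smul_add, map_add, J_smul, J_smul, ← hy, ← hz, smul_smul, smul_smul, ← pow_add, ← pow_add,
      add_comm m n]

theorem eq_of_one_tmul_eq [Module.Flat R T] {t t' : T} (h : (1 : R₁) ⊗ₜ[R] t = (1 : R₁) ⊗ₜ[R] t') :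
    t = t' := by
  have := hS.loc₁
  have hl : IsLocalizedModule (Submonoid.powers r) (TensorProduct.mk R R₁ T 1) := inferInstance
  obtain ⟨⟨_, n, rfl⟩, hn⟩ := (IsLocalizedModule.eq_iff_exists (Submonoid.powers r)
    (TensorProduct.mk R R₁ T 1)).1 h
  exact hS.pow_smul_inj_of_flat n hn

/-- Glueing elements. -/
theorem exists_glue [Module.Flat R T] (a : R₁ ⊗[R] T) (b : R' ⊗[R] T)
    (h : J R R₁ R₁₂ T a = J R R' R₁₂ T b) : ∃ t : T, 1 ⊗ₜ t = a ∧ 1 ⊗ₜ t = b := by
  have := hS.flat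
  obtain ⟨n, s, hs⟩ := hS.exists_num_one T a
  have hb : r ^ n • b = 1 ⊗ₜ s := hS.K_injective T (by
    rw [J_smul, ← h, ← J_smul, hs, J_tmul, J_tmul, map_one, map_one])
  obtain ⟨t, rfl⟩ := EtAlg23.tensor_quot_inj hS.quot n hb.symm
  refine ⟨t, hS.pow_smul_inj_one n ?_, hS.pow_smul_inj_of_flat n ?_⟩
  · rw [hs, tmul_smul]
  · rw [hb, tmul_smul]

end Tensor

end Setting

variable (O : Type u) [CommRing O] [Algebra R O]
  (ψ : R₁₂ ⊗[R] O ≃ₐ[R₁₂] R₁₂ ⊗[R] O)

/-- The glued algebra. -/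
noncomputable def lattice : Subalgebra R ((R₁ ⊗[R] O) × (R' ⊗[R] O)) :=
  AlgHom.equalizer
    (((ψ.toAlgHom.restrictScalars R).comp ((J R R₁ R₁₂ O).restrictScalars R)).comp
      (AlgHom.fst R (R₁ ⊗[R] O) (R' ⊗[R] O)))
    (((J R R' R₁₂ O).restrictScalars R).comp (AlgHom.snd R (R₁ ⊗[R] O) (R' ⊗[R] O)))

variable {O} {ψ}

theorem mem_lattice {a : R₁ ⊗[R] O} {b : R' ⊗[R] O} :
    (a, b) ∈ lattice O ψ ↔ ψ (J R R₁ R₁₂ O a) = J R R' R₁₂ O b := Iff.rfl

variable (O ψ)

/-- The first component. -/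
noncomputable def fstL : R₁ ⊗[R] lattice (R₁ := R₁) (R' := R') O ψ →ₐ[R₁] R₁ ⊗[R] O :=
  Algebra.TensorProduct.lift (Algebra.ofId R₁ _)
    ((AlgHom.fst R (R₁ ⊗[R] O) (R' ⊗[R] O)).comp (lattice O ψ).val) fun _ _ => Commute.all _ _

/-- The second component. -/
noncomputable def sndL : R' ⊗[R] lattice (R₁ := R₁) (R' := R') O ψ →ₐ[R'] R' ⊗[R] O :=
  Algebra.TensorProduct.lift (Algebra.ofId R' _)
    ((AlgHom.snd R (R₁ ⊗[R] O) (R' ⊗[R] O)).comp (lattice O ψ).val) fun _ _ => Commute.all _ _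

theorem fstL_tmul (x : R₁) (c : lattice (R₁ := R₁) (R' := R') O ψ) : fstL O ψ (x ⊗ₜ c) = x • c.1.1 := by
  rw [fstL, Algebra.TensorProduct.lift_tmul, Algebra.smul_def]; rfl

theorem sndL_tmul (x : R') (c : lattice (R₁ := R₁) (R' := R') O ψ) : sndL O ψ (x ⊗ₜ c) = x • c.1.2 := by
  rw [sndL, Algebra.TensorProduct.lift_tmul, Algebra.smul_def]; rfl

namespace Setting

variable (hS : Setting R R₁ R' R₁₂ r) [Module.Flat R O]
include hS

theorem eq_zero_of_fst {c : lattice (R₁ := R₁) (R' := R') O ψ} (h : c.1.1 = 0) : c = 0 := by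
  refine Subtype.ext (Prod.ext h (hS.K_injective O ?_))
  rw [← mem_lattice.1 c.2, h, map_zero, map_zero]
  exact (map_zero _).symm

theorem exists_mem (w : O) : ∃ (k : ℕ) (b : R' ⊗[R] O),
    (r ^ k • ((1 : R₁) ⊗ₜ[R] w), b) ∈ lattice O ψ := by
  obtain ⟨k, b, hb⟩ := hS.exists_num_both O (ψ (1 ⊗ₜ w))
  refine ⟨k, b, mem_lattice.2 ?_⟩
  rw [← hb, J_smul, J_tmul, map_one]
  exact (ψ.toLinearMap.restrictScalars R).map_smul _ _

theorem fstL_bijective : Function.Bijective (fstL (R₁ := R₁) (R' := R') O ψ) := by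
  refine ⟨(injective_iff_map_eq_zero _).2 fun x hx => ?_, fun z => ?_⟩
  · obtain ⟨n, c, hc⟩ := hS.exists_num_one _ x
    refine hS.pow_smul_inj_one n ?_
    have h0 : c.1.1 = 0 := by
      have := congrArg (fstL O ψ).toLinearMap hc
      rwa [ LinearMap.map_smul_of_tower, AlgHom.toLinearMap_apply, hx, smul_zero, AlgHom.toLinearMap_apply, fstL_tmul, one_smul, eq_comm] at this
    rw [hc, hS.eq_zero_of_fst O ψ h0, tmul_zero, smul_zero]
  · induction z using TensorProduct.induction_on with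
    | zero => exact ⟨0, map_zero _⟩
    | tmul x w =>
      obtain ⟨k, b, hm⟩ := hS.exists_mem O ψ w
      have := hS.loc₁
      obtain ⟨v, hv⟩ := ((IsLocalization.Away.algebraMap_isUnit (S := R₁) r).pow k).exists_left_inv
      refine ⟨(x * v) ⊗ₜ ⟨_, hm⟩, ?_⟩
      rw [fstL_tmul]
      show (x * v) • r ^ k • ((1 : R₁) ⊗ₜ[R] w) = _
      rw [← algebraMap_smul R₁ (r ^ k) ((1 : R₁) ⊗ₜ[R] w), smul_smul, map_pow, mul_assoc, hv, mul_one,
        smul_tmul', smul_eq_mul, mul_one]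
    | add a b ha hb =>
      obtain ⟨a', rfl⟩ := ha
      obtain ⟨b', rfl⟩ := hb
      exact ⟨a' + b', map_add _ _ _⟩

theorem sndL_bijective : Function.Bijective (sndL (R₁ := R₁) (R' := R') O ψ) := by
  classical
  have := hS.flat
  refine ⟨?_, fun z => ?_⟩
  · let C := lattice (R₁ := R₁) (R' := R') O ψ
    let f : C →ₗ[R] R₁ ⊗[R] O :=
      ((AlgHom.fst R (R₁ ⊗[R] O) (R' ⊗[R] O)).comp C.val).toLinearMap
    have hf : Function.Injective f := (injective_iff_map_eq_zero _).2 fun c hc => hS.eq_zero_of_fst O ψ hc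
    let G : R' ⊗[R] (R₁ ⊗[R] O) →ₗ[R'] R₁₂ ⊗[R] O :=
      TensorProduct.AlgebraTensorModule.lift
        (LinearMap.toSpanSingleton R' (R₁ ⊗[R] O →ₗ[R] R₁₂ ⊗[R] O)
          ((J R R₁ R₁₂ O).restrictScalars R).toLinearMap)
    have hG : ∀ (s : R') (z : R₁ ⊗[R] O), G (s ⊗ₜ z) = s • J R R₁ R₁₂ O z := fun s z => rfl
    have hGnum : ∀ y : R' ⊗[R] (R₁ ⊗[R] O), ∃ (n : ℕ) (w : R' ⊗[R] O),
        r ^ n • y = (TensorProduct.mk R R₁ O 1).lTensor R' w ∧
          G ((TensorProduct.mk R R₁ O 1).lTensor R' w) = J R R' R₁₂ O w := by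
      have hGw : ∀ w, G ((TensorProduct.mk R R₁ O 1).lTensor R' w) = J R R' R₁₂ O w := fun w => by
        induction w using TensorProduct.induction_on with
        | zero => simp
        | tmul s o =>
          rw [LinearMap.lTensor_tmul, hG, TensorProduct.mk_apply, J_tmul, map_one, J_tmul, smul_tmul',
            Algebra.smul_def, mul_one]
        | add a b ha hb => simp only [map_add, ha, hb]
      intro y
      suffices h : ∃ (n : ℕ) (w : R' ⊗[R] O), r ^ n • y = (TensorProduct.mk R R₁ O 1).lTensor R' w by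
        obtain ⟨n, w, hw⟩ := h; exact ⟨n, w, hw, hGw w⟩
      induction y using TensorProduct.induction_on with
      | zero => exact ⟨0, 0, by simp⟩
      | tmul s z =>
        obtain ⟨n, t, ht⟩ := hS.exists_num_one O z
        exact ⟨n, s ⊗ₜ t, by rw [← tmul_smul, ht]; rfl⟩
      | add a b ha hb =>
        obtain ⟨n, v, hv⟩ := ha
        obtain ⟨m, w, hw⟩ := hb
        exact ⟨n + m, r ^ m • v + r ^ n • w, by
          rw [smul_add, map_add, map_smul, map_smul, ← hv, ← hw, smul_smul, smul_smul, ← pow_add,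
            ← pow_add, add_comm m n]⟩
    have hkey : ∀ x : R' ⊗[R] C,
        ψ (G (f.lTensor R' x)) = J R R' R₁₂ O (sndL O ψ x) := by
      intro x
      induction x using TensorProduct.induction_on with
      | zero => simp
      | tmul s c =>
        rw [LinearMap.lTensor_tmul, hG, sndL_tmul, map_smul (J R R' R₁₂ O), ← algebraMap_smul R₁₂ s,
          map_smul, algebraMap_smul]
        exact congrArg (s • ·) (mem_lattice.1 c.2)
      | add a b ha hb => simp only [map_add, ha, hb]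
    refine (injective_iff_map_eq_zero _).2 fun x hx => Module.Flat.lTensor_preserves_injective_linearMap f hf ?_
    have h0 : G (f.lTensor R' x) = 0 := ψ.injective (by rw [hkey, hx, map_zero, map_zero])
    obtain ⟨n, w, hw, hGw⟩ := hGnum (f.lTensor R' x)
    have hw0 : w = 0 := hS.K_injective O (by
      rw [← hGw, ← hw, LinearMap.map_smul_of_tower, h0, smul_zero, map_zero])
    rw [map_zero]
    have := hS.flat_loc
    refine hS.pow_smul_inj_of_flat n ?_
    rw [hw, hw0, map_zero, smul_zero]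
  · suffices h : ∀ w : O, ∃ x, sndL (R₁ := R₁) (R' := R') O ψ x = 1 ⊗ₜ w by
      induction z using TensorProduct.induction_on with
      | zero => exact ⟨0, map_zero _⟩
      | tmul s w =>
        obtain ⟨x, hx⟩ := h w
        exact ⟨s • x, by rw [map_smul, hx, smul_tmul', smul_eq_mul, mul_one]⟩
      | add a b ha hb =>
        obtain ⟨a', rfl⟩ := ha
        obtain ⟨b', rfl⟩ := hb
        exact ⟨a' + b', map_add _ _ _⟩
    intro w
    obtain ⟨m, y, hy⟩ := hS.exists_num_both O (ψ.symm (1 ⊗ₜ w))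
    obtain ⟨s, rfl⟩ := TensorProduct.exists_finset y
    choose k b hkb using fun o : O => hS.exists_mem (R₁ := R₁) O ψ o
    choose u e hue using fun i : R' × O => EtAlg23.quot_surj hS.quot (k i.2 + m) i.1
    have := hS.loc₁
    obtain ⟨v, hv⟩ := ((IsLocalization.Away.algebraMap_isUnit (S := R₁) r).pow m).exists_left_inv
    let a : R₁ ⊗[R] O := v ⊗ₜ (∑ i ∈ s, u i • i.2)
    have ha : r ^ m • J R R₁ R₁₂ O a = ∑ i ∈ s, (algebraMap R R₁₂ (u i)) ⊗ₜ i.2 := by
      rw [← J_smul, smul_tmul', Algebra.smul_def, map_pow, mul_comm, hv, J_tmul, map_one,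
        tmul_sum]
      refine Finset.sum_congr rfl fun i _ => ?_
      rw [Algebra.algebraMap_eq_smul_one, smul_tmul]
    have hz : ψ.symm ((1 : R₁₂) ⊗ₜ w) =
        J R R₁ R₁₂ O a + ∑ i ∈ s, e i • (r ^ k i.2 • ((1 : R₁₂) ⊗ₜ[R] i.2)) := by
      refine hS.pow_smul_inj_both m ?_
      rw [hy, map_sum, smul_add, ha, Finset.smul_sum, ← Finset.sum_add_distrib]
      refine Finset.sum_congr rfl fun i _ => ?_
      rw [J_tmul, smul_comm (r ^ m) (e i), smul_smul, ← pow_add, smul_tmul', smul_tmul', ← add_tmul]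
      congr 1
      conv_lhs => rw [hue i]
      rw [map_add, ← IsScalarTower.algebraMap_apply, add_comm m]
      simp only [Algebra.smul_def, map_mul, map_pow, mul_one, ← IsScalarTower.algebraMap_apply]
      ring
    let b' : R' ⊗[R] O := 1 ⊗ₜ w - ∑ i ∈ s, e i • b i.2
    have hm : (a, b') ∈ lattice O ψ := mem_lattice.2 (by
      have h2 := congrArg ψ hz
      rw [ψ.apply_symm_apply, map_add, map_sum] at h2
      rw [map_sub, map_sum, show J R R' R₁₂ O (1 ⊗ₜ w) = 1 ⊗ₜ w by rw [J_tmul, map_one], h2, eq_sub_iff_add_eq]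
      congr 1
      refine Finset.sum_congr rfl fun i _ => ?_
      have h3 := mem_lattice.1 (hkb i.2)
      rw [J_smul, J_tmul, map_one] at h3
      rw [map_smul, ← h3, ← algebraMap_smul R₁₂ (e i), ← algebraMap_smul R₁₂ (e i), map_smul ψ])
    refine ⟨1 ⊗ₜ ⟨_, hm⟩ + ∑ i ∈ s, e i ⊗ₜ ⟨_, hkb i.2⟩, ?_⟩
    rw [map_add, map_sum, sndL_tmul, one_smul]
    simp only [sndL_tmul, b', sub_add_cancel]

theorem flat_lattice : Module.Flat R (lattice (R₁ := R₁) (R' := R') O ψ) := by
  have := hS.flat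
  have := hS.flat_loc
  let C := lattice (R₁ := R₁) (R' := R') O ψ
  have : Module.Flat R' (R' ⊗[R] C) :=
    Module.Flat.of_linearEquiv (LinearEquiv.ofBijective (sndL O ψ).toLinearMap (hS.sndL_bijective O ψ))
  have := hS.loc₁
  have : Module.Flat R (R₁ ⊗[R] C) :=
    Module.Flat.of_linearEquiv
      (LinearEquiv.ofBijective ((fstL O ψ).toLinearMap.restrictScalars R) (hS.fstL_bijective O ψ))
  have : Module.Flat R (LocalizedModule (Submonoid.powers r) C) :=
    Module.Flat.of_linearEquiv (IsLocalizedModule.linearEquiv (Submonoid.powers r)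
      (LocalizedModule.mkLinearMap (Submonoid.powers r) C) (TensorProduct.mk R R₁ C 1))
  refine EtAlg23.flat_of_glueingPair ((EtAlg23.isGlueingPair_iff hS.quot).2
    ⟨fun x ⟨n, hn⟩ _ => (hS.reg.pow n).left (by simpa using hn), fun x' ⟨n, hn⟩ => ?_⟩) C
  exact ⟨0, ⟨0, by simp⟩, by
    rw [map_zero]; exact (hS.pow_smul_inj_of_flat n (by rw [smul_zero, Algebra.smul_def, map_pow, hn])).symm⟩

theorem finiteType_lattice [Algebra.FiniteType R O] :
    Algebra.FiniteType R (lattice (R₁ := R₁) (R' := R') O ψ) := by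
  have := hS.loc₁
  let C := lattice (R₁ := R₁) (R' := R') O ψ
  have : Algebra.FiniteType R' (R' ⊗[R] C) :=
    Algebra.FiniteType.equiv inferInstance (AlgEquiv.ofBijective (sndL O ψ) (hS.sndL_bijective O ψ)).symm
  have h1 : Algebra.FiniteType R₁ (R₁ ⊗[R] C) :=
    Algebra.FiniteType.equiv inferInstance (AlgEquiv.ofBijective (fstL O ψ) (hS.fstL_bijective O ψ)).symm
  let e : R₁ ≃ₐ[R] Localization.Away r := IsLocalization.algEquiv (Submonoid.powers r) _ _
  have : Algebra.FiniteType (Localization.Away r) (Localization.Away r ⊗[R] C) := by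
    rw [← RingHom.finiteType_algebraMap] at h1 ⊢
    have h2 := (RingHom.finiteType_respectsIso).2 _ e.symm.toRingEquiv
      ((RingHom.finiteType_respectsIso).1 _ (Algebra.TensorProduct.congr e (AlgEquiv.refl (A₁ := C))).toRingEquiv h1)
    convert h2 using 1
    ext x
    simp [Algebra.TensorProduct.algebraMap_apply]
  exact (Glue24.dense_of_quotPowBijective hS.quot).finiteType

/-- The universal property of the glued algebra. -/
theorem exists_lift (T : Type u) [CommRing T] [Algebra R T] [Module.Flat R T]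
    (a : R₁ ⊗[R] O →ₐ[R₁] R₁ ⊗[R] T) (b : R' ⊗[R] O →ₐ[R'] R' ⊗[R] T)
    (E : R₁₂ ⊗[R] O →ₐ[R₁₂] R₁₂ ⊗[R] T)
    (hEa : ∀ z, J R R₁ R₁₂ T (a z) = E (ψ (J R R₁ R₁₂ O z)))
    (hEb : ∀ z, J R R' R₁₂ T (b z) = E (J R R' R₁₂ O z)) :
    ∃ x : lattice (R₁ := R₁) (R' := R') O ψ →ₐ[R] T,
      ∀ c, (1 : R₁) ⊗ₜ[R] x c = a c.1.1 ∧ (1 : R') ⊗ₜ[R] x c = b c.1.2 := by
  let C := lattice (R₁ := R₁) (R' := R') O ψ
  choose x hx using fun c : C => hS.exists_glue T (a c.1.1) (b c.1.2)
    (by rw [hEa, hEb, mem_lattice.1 c.2])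
  refine ⟨
    { toFun := x
      map_one' := hS.eq_of_one_tmul_eq T (by rw [(hx 1).1]; exact map_one a)
      map_mul' := fun c c' => hS.eq_of_one_tmul_eq T (by
        rw [(hx (c * c')).1, ← mul_one (1 : R₁), ← Algebra.TensorProduct.tmul_mul_tmul, (hx c).1, (hx c').1]
        exact map_mul a c.1.1 c'.1.1)
      map_zero' := hS.eq_of_one_tmul_eq T (by rw [(hx 0).1, tmul_zero]; exact map_zero a)
      map_add' := fun c c' => hS.eq_of_one_tmul_eq T (by
        rw [(hx (c + c')).1, tmul_add, (hx c).1, (hx c').1]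
        exact map_add a c.1.1 c'.1.1)
      commutes' := fun q => hS.eq_of_one_tmul_eq T (by
        rw [(hx (algebraMap R C q)).1]
        show (a.restrictScalars R) (algebraMap R (R₁ ⊗[R] O) q) = _
        rw [AlgHom.commutes, Algebra.algebraMap_eq_smul_one, Algebra.algebraMap_eq_smul_one, tmul_smul]
        rfl) }, hx⟩

end Setting

end Groth.Agent.VP29
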