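import Groth.Agent.VP29.Lattice
import Groth.Agent.VP29.Affine
import Mathlib.AlgebraicGeometry.Morphisms.FinitePresentation
import Mathlib.RingTheory.FinitePresentation

/-! The affine scheme glued from a scheme over `R[1/r]` and one over `R'`. -/

set_option autoImplicit false

universe u

open CategoryTheory MonoidalCategory CartesianMonoidalCategory AlgebraicGeometry TensorProduct

namespace Groth.Agent.VP29

variable {R R₁ R' R₁₂ : Type u} [CommRing R] [CommRing R₁] [CommRing R'] [CommRing R₁₂]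
  [Algebra R R₁] [Algebra R R'] [Algebra R R₁₂] [Algebra R₁ R₁₂] [Algebra R' R₁₂]
  [IsScalarTower R R₁ R₁₂] [IsScalarTower R R' R₁₂]

variable (R R₁ R₁₂) in
/-- The map of bases. -/
noncomputable abbrev res : sp R R₁₂ ⟶ sp R R₁ := sm (IsScalarTower.toAlgHom R R₁ R₁₂)

variable {O T : Type u} [CommRing O] [Algebra R O] [CommRing T] [Algebra R T]

variable (R₁₂) in
theorem res_whisker_comp {fa : O →ₐ[R] R₁ ⊗[R] T} {a : sp R R₁ ⊗ sp R T ⟶ sp R O}
    (ha : spTensor R R₁ T ≫ a = sm fa) :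
    spTensor R R₁₂ T ≫ (res R R₁ R₁₂ ▷ sp R T) ≫ a = sm (((J R R₁ R₁₂ T).restrictScalars R).comp fa) := by
  rw [spTensor_whiskerRight_assoc, ha, sm_comp]
  rfl

/-- The extension of scalars of a point. -/
noncomputable def ext {S : Type u} [CommRing S] [Algebra R S] (f : O →ₐ[R] S ⊗[R] T) :
    S ⊗[R] O →ₐ[S] S ⊗[R] T :=
  Algebra.TensorProduct.lift (Algebra.ofId S _) f fun _ _ => Commute.all _ _

theorem ext_one_tmul {S : Type u} [CommRing S] [Algebra R S] (f : O →ₐ[R] S ⊗[R] T) (o : O) :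
    ext f ((1 : S) ⊗ₜ o) = f o := by
  rw [ext, Algebra.TensorProduct.lift_tmul, map_one, one_mul]

theorem ext_tmul {S : Type u} [CommRing S] [Algebra R S] (f : O →ₐ[R] S ⊗[R] T) (s : S) (o : O) :
    ext f (s ⊗ₜ o) = s • f o := by
  rw [ext, Algebra.TensorProduct.lift_tmul, Algebra.smul_def]; rfl

theorem J_ext (f : O →ₐ[R] R₁ ⊗[R] T) (z : R₁ ⊗[R] O) :
    J R R₁ R₁₂ T (ext f z) = ext (((J R R₁ R₁₂ T).restrictScalars R).comp f) (J R R₁ R₁₂ O z) := by
  induction z using TensorProduct.induction_on with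
  | zero => simp
  | tmul s o =>
    rw [ext_tmul, J_tmul, ext_tmul, map_smul, algebraMap_smul]
    rfl
  | add a b ha hb => simp only [map_add, ha, hb]

theorem rel_iff (Θ : sp R R₁₂ ⊗ sp R O ≅ sp R R₁₂ ⊗ sp R O) (ψ : R₁₂ ⊗[R] O →ₐ[R₁₂] R₁₂ ⊗[R] O)
    (hψ : spTensor R R₁₂ O ≫ Θ.hom = sm (ψ.restrictScalars R) ≫ spTensor R R₁₂ O)
    {fa : O →ₐ[R] R₁ ⊗[R] T} {a : sp R R₁ ⊗ sp R T ⟶ sp R O} (ha : spTensor R R₁ T ≫ a = sm fa)
    {fb : O →ₐ[R] R' ⊗[R] T} {b : sp R R' ⊗ sp R T ⟶ sp R O} (hb : spTensor R R' T ≫ b = sm fb) :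
    lift (fst _ _) ((res R R₁ R₁₂ ▷ sp R T) ≫ a) =
        lift (fst _ _) ((res R R' R₁₂ ▷ sp R T) ≫ b) ≫ Θ.hom ↔
      ext (((J R R₁ R₁₂ T).restrictScalars R).comp fa) =
        (ext (((J R R' R₁₂ T).restrictScalars R).comp fb)).comp ψ := by
  rw [← cancel_epi (spTensor R R₁₂ T), spTensor_lift_eq _ _ (res_whisker_comp R₁₂ ha), ← Category.assoc,
    spTensor_lift_eq _ _ (res_whisker_comp R₁₂ hb), Category.assoc, hψ, ← Category.assoc, ← sm_comp, cancel_mono]
  refine sm_injective.eq_iff.trans ?_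
  constructor
  · intro h
    exact AlgHom.ext fun x => AlgHom.congr_fun h x
  · intro h
    exact AlgHom.ext fun x => AlgHom.congr_fun h x

variable {r : R}

theorem exists_glue_sp (hS : Setting R R₁ R' R₁₂ r) [Module.Flat R T]
    (a : sp R R₁ ⊗ sp R T ⟶ sp R O) (b : sp R R' ⊗ sp R T ⟶ sp R O)
    (h : (res R R₁ R₁₂ ▷ sp R T) ≫ a = (res R R' R₁₂ ▷ sp R T) ≫ b) :
    ∃ x : sp R T ⟶ sp R O, snd _ _ ≫ x = a ∧ snd _ _ ≫ x = b := by
  obtain ⟨fa, ha⟩ := exists_sm (spTensor R R₁ T ≫ a)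
  obtain ⟨fb, hb⟩ := exists_sm (spTensor R R' T ≫ b)
  rw [← cancel_epi (spTensor R R₁₂ T), res_whisker_comp R₁₂ ha.symm, res_whisker_comp R₁₂ hb.symm] at h
  choose x hx using fun o : O => hS.exists_glue T (fa o) (fb o) (AlgHom.congr_fun (sm_injective h) o)
  let f : O →ₐ[R] T :=
    { toFun := x
      map_one' := hS.eq_of_one_tmul_eq T (by rw [(hx 1).1, map_one]; rfl)
      map_mul' := fun c c' => hS.eq_of_one_tmul_eq T (by
        rw [(hx (c * c')).1, ← mul_one (1 : R₁), ← Algebra.TensorProduct.tmul_mul_tmul, (hx c).1, (hx c').1,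
          map_mul])
      map_zero' := hS.eq_of_one_tmul_eq T (by rw [(hx 0).1, tmul_zero, map_zero])
      map_add' := fun c c' => hS.eq_of_one_tmul_eq T (by
        rw [(hx (c + c')).1, tmul_add, (hx c).1, (hx c').1, map_add])
      commutes' := fun q => hS.eq_of_one_tmul_eq T (by
        rw [(hx (algebraMap R O q)).1, AlgHom.commutes, Algebra.algebraMap_eq_smul_one,
          Algebra.algebraMap_eq_smul_one, tmul_smul]
        rfl) }
  refine ⟨sm f, ?_, ?_⟩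
  · rw [← cancel_epi (spTensor R R₁ T), spTensor_snd_assoc, ← sm_comp, ← ha]
    exact congrArg sm (AlgHom.ext fun o => (hx o).1)
  · rw [← cancel_epi (spTensor R R' T), spTensor_snd_assoc, ← sm_comp, ← hb]
    exact congrArg sm (AlgHom.ext fun o => (hx o).2)

theorem hom_ext_sp (hS : Setting R R₁ R' R₁₂ r) [Module.Flat R T] {x y : sp R T ⟶ sp R O}
    (h : snd (sp R R₁) _ ≫ x = snd _ _ ≫ y) : x = y := by
  obtain ⟨f, rfl⟩ := exists_sm x
  obtain ⟨g, rfl⟩ := exists_sm y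
  rw [← cancel_epi (spTensor R R₁ T), spTensor_snd_assoc, spTensor_snd_assoc, ← sm_comp, ← sm_comp] at h
  exact congrArg sm (AlgHom.ext fun o => hS.eq_of_one_tmul_eq T (AlgHom.congr_fun (sm_injective h) o))

set_option maxHeartbeats 800000 in
theorem exists_lattice_sp (hS : Setting R R₁ R' R₁₂ r) [IsNoetherianRing R] [Module.Flat R O]
    [Algebra.FiniteType R O] (Θ : sp R R₁₂ ⊗ sp R O ≅ sp R R₁₂ ⊗ sp R O) (hΘ : Θ.hom ≫ fst _ _ = fst _ _)
    (e : O →ₐ[R] R) :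
    ∃ (C : Type u) (_ : CommRing C) (_ : Algebra R C), Module.Flat R C ∧ Algebra.FinitePresentation R C ∧
      Nonempty (C →ₐ[R] R₁) ∧ Nonempty (C →ₐ[R] R') ∧
      ∃ (χ : sp R R₁ ⊗ sp R C ⟶ sp R O) (η : sp R R' ⊗ sp R C ⟶ sp R O),
        lift (fst _ _) ((res R R₁ R₁₂ ▷ sp R C) ≫ χ) =
          lift (fst _ _) ((res R R' R₁₂ ▷ sp R C) ≫ η) ≫ Θ.hom ∧
        ∀ (T : Type u) [CommRing T] [Algebra R T] [Module.Flat R T]
          (a : sp R R₁ ⊗ sp R T ⟶ sp R O) (b : sp R R' ⊗ sp R T ⟶ sp R O),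
          lift (fst _ _) ((res R R₁ R₁₂ ▷ sp R T) ≫ a) =
              lift (fst _ _) ((res R R' R₁₂ ▷ sp R T) ≫ b) ≫ Θ.hom →
            ∃! x : sp R T ⟶ sp R C, (sp R R₁ ◁ x) ≫ χ = a := by
  obtain ⟨f, hf⟩ := exists_sm (spTensor R R₁₂ O ≫ Θ.hom ≫ inv (spTensor R R₁₂ O))
  obtain ⟨g, hg⟩ := exists_sm (spTensor R R₁₂ O ≫ Θ.inv ≫ inv (spTensor R R₁₂ O))
  have hΘ' : Θ.inv ≫ fst _ _ = fst (sp R R₁₂) (sp R O) := by rw [Iso.inv_comp_eq, hΘ]
  have hfl : f.comp Algebra.TensorProduct.includeLeft = Algebra.TensorProduct.includeLeft := sm_injective (by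
    rw [sm_comp, hf, ← spTensor_fst, Category.assoc, Category.assoc, IsIso.inv_hom_id_assoc, hΘ])
  have hgl : g.comp Algebra.TensorProduct.includeLeft = Algebra.TensorProduct.includeLeft := sm_injective (by
    rw [sm_comp, hg, ← spTensor_fst, Category.assoc, Category.assoc, IsIso.inv_hom_id_assoc, hΘ'])
  let ψ : R₁₂ ⊗[R] O ≃ₐ[R₁₂] R₁₂ ⊗[R] O :=
    AlgEquiv.ofAlgHom { f with commutes' := fun z => AlgHom.congr_fun hfl z }
      { g with commutes' := fun z => AlgHom.congr_fun hgl z }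
      (AlgHom.ext fun z => AlgHom.congr_fun (show f.comp g = AlgHom.id R _ from sm_injective (by
        rw [sm_comp, hf, hg, sm_id]; simp)) z)
      (AlgHom.ext fun z => AlgHom.congr_fun (show g.comp f = AlgHom.id R _ from sm_injective (by
        rw [sm_comp, hf, hg, sm_id]; simp)) z)
  have hψ : spTensor R R₁₂ O ≫ Θ.hom = sm (ψ.toAlgHom.restrictScalars R) ≫ spTensor R R₁₂ O := by
    rw [show ψ.toAlgHom.restrictScalars R = f from rfl, hf]
    simp
  let C := lattice (R₁ := R₁) (R' := R') O ψ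
  let A₁ : R₁ ⊗[R] C ≃ₐ[R₁] R₁ ⊗[R] O := AlgEquiv.ofBijective (fstL O ψ) (hS.fstL_bijective O ψ)
  let A' : R' ⊗[R] C ≃ₐ[R'] R' ⊗[R] O := AlgEquiv.ofBijective (sndL O ψ) (hS.sndL_bijective O ψ)
  haveI := hS.finiteType_lattice O ψ
  haveI := hS.flat_lattice O ψ
  let χh : O →ₐ[R] R₁ ⊗[R] C :=
    (A₁.symm.toAlgHom.restrictScalars R).comp Algebra.TensorProduct.includeRight
  let ηh : O →ₐ[R] R' ⊗[R] C :=
    (A'.symm.toAlgHom.restrictScalars R).comp Algebra.TensorProduct.includeRight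
  have hχh : ext χh = A₁.symm.toAlgHom :=
    Algebra.TensorProduct.ext (Subsingleton.elim _ _)
      (AlgHom.ext fun o => ext_one_tmul χh o)
  have hηh : ext ηh = A'.symm.toAlgHom :=
    Algebra.TensorProduct.ext (Subsingleton.elim _ _)
      (AlgHom.ext fun o => ext_one_tmul ηh o)
  refine ⟨C, inferInstance, inferInstance, inferInstance, (Algebra.FinitePresentation.of_finiteType).1 inferInstance,
    ⟨(((Algebra.TensorProduct.rid R R R₁).toAlgHom.comp (Algebra.TensorProduct.map (AlgHom.id R R₁) e)).comp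
      ((AlgHom.fst R (R₁ ⊗[R] O) (R' ⊗[R] O)).comp C.val))⟩,
    ⟨(((Algebra.TensorProduct.rid R R R').toAlgHom.comp (Algebra.TensorProduct.map (AlgHom.id R R') e)).comp
      ((AlgHom.snd R (R₁ ⊗[R] O) (R' ⊗[R] O)).comp C.val))⟩,
    inv (spTensor R R₁ C) ≫ sm χh, inv (spTensor R R' C) ≫ sm ηh, ?_, ?_⟩
  · rw [rel_iff Θ ψ.toAlgHom hψ (IsIso.hom_inv_id_assoc _ _) (IsIso.hom_inv_id_assoc _ _)]
    refine Algebra.TensorProduct.ext (Subsingleton.elim _ _) (AlgHom.ext fun o => ?_)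
    set E := ext (((J R R' R₁₂ C).restrictScalars R).comp ηh)
    suffices hz : ∀ y : R₁ ⊗[R] C, J R R₁ R₁₂ C y = E (ψ (J R R₁ R₁₂ O (A₁ y))) by
      show ext (((J R R₁ R₁₂ C).restrictScalars R).comp χh) (1 ⊗ₜ o) = E (ψ (1 ⊗ₜ o))
      rw [ext_one_tmul]
      show J R R₁ R₁₂ C (A₁.symm (1 ⊗ₜ o)) = _
      rw [hz, A₁.apply_symm_apply, J_tmul, map_one]
    intro y
    induction y using TensorProduct.induction_on with
    | zero => simp
    | tmul s c =>
      rw [show A₁ (s ⊗ₜ c) = s • c.1.1 from fstL_tmul O ψ s c, map_smul,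
        ← algebraMap_smul R₁₂ s (J R R₁ R₁₂ O c.1.1), map_smul, map_smul, mem_lattice.1 c.2]
      rw [show E (J R R' R₁₂ O c.1.2) = J R R' R₁₂ C (ext ηh c.1.2) from (J_ext ηh c.1.2).symm, hηh,
        show A'.symm.toAlgHom c.1.2 = (1 : R') ⊗ₜ c from A'.symm_apply_eq.2 (by
          rw [show A' ((1 : R') ⊗ₜ c) = (1 : R') • c.1.2 from sndL_tmul O ψ 1 c, one_smul]),
        J_tmul, J_tmul, map_one, smul_tmul', smul_eq_mul, mul_one]
    | add a b ha hb => simp only [map_add, ha, hb]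
  · intro T _ _ _ a b hab
    obtain ⟨fa, ha⟩ := exists_sm (spTensor R R₁ T ≫ a)
    obtain ⟨fb, hb⟩ := exists_sm (spTensor R R' T ≫ b)
    rw [rel_iff Θ ψ.toAlgHom hψ ha.symm hb.symm] at hab
    obtain ⟨x, hx⟩ := hS.exists_lift O ψ T (ext fa) (ext fb)
      (ext (((J R R' R₁₂ T).restrictScalars R).comp fb))
      (fun z => by rw [J_ext, hab]; rfl) (fun z => J_ext fb z)
    have key : ∀ x' : C →ₐ[R] T, (sp R R₁ ◁ sm x') ≫ inv (spTensor R R₁ C) ≫ sm χh = a ↔
        ∀ c, (1 : R₁) ⊗ₜ[R] x' c = ext fa c.1.1 := by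
      intro x'
      rw [← cancel_epi (spTensor R R₁ T), spTensor_whiskerLeft_assoc, IsIso.hom_inv_id_assoc, ← ha,
        ← sm_comp, sm_injective.eq_iff]
      have hext : ∀ z : R₁ ⊗[R] O,
          ext ((Algebra.TensorProduct.map (AlgHom.id R R₁) x').comp χh) z =
            Algebra.TensorProduct.map (AlgHom.id R₁ R₁) x' (A₁.symm z) := by
        intro z
        have : ext ((Algebra.TensorProduct.map (AlgHom.id R R₁) x').comp χh) =
            (Algebra.TensorProduct.map (AlgHom.id R₁ R₁) x').comp A₁.symm.toAlgHom :=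
          Algebra.TensorProduct.ext (Subsingleton.elim _ _) (AlgHom.ext fun o => ext_one_tmul _ o)
        exact AlgHom.congr_fun this z
      constructor
      · intro h c
        rw [← h, hext, A₁.symm_apply_eq.2 (show c.1.1 = A₁ ((1 : R₁) ⊗ₜ c) by
          rw [show A₁ ((1 : R₁) ⊗ₜ c) = (1 : R₁) • c.1.1 from fstL_tmul O ψ 1 c, one_smul])]
        simp
      · intro h
        have h2 : Algebra.TensorProduct.map (AlgHom.id R₁ R₁) x' = (ext fa).comp A₁.toAlgHom :=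
          Algebra.TensorProduct.ext (Subsingleton.elim _ _) (AlgHom.ext fun c => by
            show (1 : R₁) ⊗ₜ[R] x' c = ext fa (A₁ ((1 : R₁) ⊗ₜ c))
            rw [h c, show A₁ ((1 : R₁) ⊗ₜ c) = (1 : R₁) • c.1.1 from fstL_tmul O ψ 1 c, one_smul])
        refine AlgHom.ext fun o => ?_
        show Algebra.TensorProduct.map (AlgHom.id R₁ R₁) x' (A₁.symm (1 ⊗ₜ o)) = fa o
        rw [h2]
        show ext fa (A₁ (A₁.symm (1 ⊗ₜ o))) = fa o
        rw [A₁.apply_symm_apply, ext_one_tmul]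
    refine ⟨sm x, (key x).2 fun c => (hx c).1, fun y hy => ?_⟩
    obtain ⟨y, rfl⟩ := exists_sm y
    exact congrArg sm (AlgHom.ext fun c => hS.eq_of_one_tmul_eq T (((key y).1 hy c).trans (hx c).1.symm))

end Groth.Agent.VP29
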